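import Groth.Agent.LC.GorLoc
import Groth.Agent.LC.DepthExt
import Groth.Agent.CMClosed.Basic
import Groth.Agent.S2428
import Groth.Agent.S3527
import Groth.Agent.S16238
import Mathlib

/-!
# Regular sequences of the expected height in Cohen–Macaulay rings and Tor independence
-/

set_option autoImplicit false
set_option linter.style.haveILetI false
set_option backward.isDefEq.respectTransparency false
set_option backward.isDefEq.respectTransparency.types false

universe u

open CategoryTheory RingTheory.Sequence IsLocalRing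
open scoped TensorProduct Pointwise

namespace Groth.Agent.H1CMReg

/-- In a CM local ring a list cutting out height at least its length is weakly regular. -/
theorem weaklyRegular_of_height {R : Type u} [CommRing R] [LocCoh.IsCohenMacaulayLocalRing R] (L : List R)
    (hmem : ∀ r ∈ L, r ∈ maximalIdeal R)
    (hht : ∀ q : Ideal R, q.IsPrime → (∀ r ∈ L, r ∈ q) → (L.length : ℕ∞) ≤ q.height) : IsWeaklyRegular R L := by
  refine (LC.idealDepth_ofList_eq_length_iff L hmem).1 (le_antisymm (LC.idealDepth_ofList_le_length L hmem) ?_)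
  rw [LC.idealDepth_self_eq_height, Ideal.height_eq_inf_minimalPrimes]
  exact le_iInf₂ fun q hq => hht q hq.1.1 fun r hr => hq.1.2 (Ideal.subset_span hr)

variable {A : Type u} [CommRing A]

theorem tor_congr {P P' Q Q' : Type u} [AddCommGroup P] [Module A P] [AddCommGroup P'] [Module A P']
    [AddCommGroup Q] [Module A Q] [AddCommGroup Q'] [Module A Q'] (e : P ≃ₗ[A] P') (f : Q ≃ₗ[A] Q') (i : ℕ)
    (h : Subsingleton (DRing.Tor A i P' Q')) : Subsingleton (DRing.Tor A i P Q) :=
  ModuleCat.isZero_iff_subsingleton.1
    ((ModuleCat.isZero_iff_subsingleton.2 h).of_iso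
      ((((Tor (ModuleCat.{u} A) i).mapIso e.toModuleIso).app (ModuleCat.of A Q)) ≪≫
        ((Tor (ModuleCat.{u} A) i).obj (ModuleCat.of A P')).mapIso f.toModuleIso))

/-- Tor independence of two lists in a local ring, regular jointly in both orders. -/
theorem tor_local {R : Type u} [CommRing R] [IsNoetherianRing R] [IsLocalRing R] {I J : Ideal R} (f g : List R)
    (hI : I = Ideal.ofList f) (hJ : J = Ideal.ofList g) (hIJ : I ⊔ J ≠ ⊤)
    (hfg : IsWeaklyRegular R (f ++ g)) (hgf : IsWeaklyRegular R (g ++ f)) (i : ℕ) (hi : 0 < i) :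
    Subsingleton (DRing.Tor R i (R ⧸ I) (R ⧸ J)) := by
  rw [isWeaklyRegular_append_iff] at hfg hgf
  have hf : List.ofFn (fun k => f.get k) = f := List.ofFn_getElem
  have hspan : Ideal.span (Set.range fun k => f.get k) = I := by
    rw [hI]
    exact congrArg Ideal.span (Set.ext fun x => by simp [List.mem_iff_get])
  have hJq : IsWeaklyRegular (R ⧸ J) f := by
    refine (LinearEquiv.isWeaklyRegular_congr (Submodule.quotEquivOfEq _ J ?_) f).1 hgf.2
    rw [smul_eq_mul, Ideal.mul_top, hJ]
  have hx : IsWeaklyRegular (R ⧸ J) (List.ofFn fun k => Ideal.Quotient.mk J (f.get k)) := by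
    rw [show (List.ofFn fun k => Ideal.Quotient.mk J (f.get k)) = f.map (algebraMap R (R ⧸ J)) by
      conv_rhs => rw [← hf, List.map_ofFn]
      rfl]
    exact (isWeaklyRegular_map_algebraMap_iff (R ⧸ J) (R ⧸ J) f).2 hJq
  have h := (S16238.result R f.length (fun k => f.get k) (hf.symm ▸ hfg.1) J (hspan.symm ▸ hIJ)).1 hx i hi
  exact tor_congr (Submodule.quotEquivOfEq _ _ hspan.symm) (LinearEquiv.refl R _) i
    (ModuleCat.isZero_iff_subsingleton.1 h)

/-- Vanishing of Tor of two cyclic modules is local. -/
theorem tor_of_local (I J : Ideal A) (i : ℕ)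
    (h : ∀ (m : Ideal A) [m.IsMaximal], Subsingleton (DRing.Tor (Localization.AtPrime m) i
      (Localization.AtPrime m ⧸ I.map (algebraMap A (Localization.AtPrime m)))
      (Localization.AtPrime m ⧸ J.map (algebraMap A (Localization.AtPrime m))))) :
    Subsingleton (DRing.Tor A i (A ⧸ I) (A ⧸ J)) := by
  refine Module.subsingleton_of_localization_maximal (fun m _ => Localization.AtPrime m ⊗[A] DRing.Tor A i (A ⧸ I) (A ⧸ J))
    (fun m _ => TensorProduct.mk A (Localization.AtPrime m) (DRing.Tor A i (A ⧸ I) (A ⧸ J)) 1) fun m _ => ?_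
  haveI : Module.Flat A (Localization.AtPrime m) := IsLocalization.flat _ m.primeCompl
  obtain ⟨e⟩ := S2428.result A (Localization.AtPrime m) (A ⧸ I) (A ⧸ J) i
  refine @Equiv.subsingleton _ _ e.toEquiv ?_
  exact tor_congr (Algebra.TensorProduct.quotIdealMapEquivTensorQuot (Localization.AtPrime m) I).symm.toLinearEquiv
    (Algebra.TensorProduct.quotIdealMapEquivTensorQuot (Localization.AtPrime m) J).symm.toLinearEquiv i (h m)

/-- Tor against a zero module. -/
theorem tor_of_subsingleton {R : Type u} [CommRing R] (P Q : Type u) [AddCommGroup P] [Module R P]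
    [AddCommGroup Q] [Module R Q] (h : Subsingleton P ∨ Subsingleton Q) (i : ℕ) (hi : 0 < i) :
    Subsingleton (DRing.Tor R i P Q) := by
  rcases h with h | h
  · haveI : Module.Flat R P := Module.Flat.of_linearEquiv
      (LinearEquiv.ofSubsingleton P PUnit.{u + 1})
    exact (S3527.result R P Q i hi).1
  · haveI : Module.Flat R Q := Module.Flat.of_linearEquiv
      (LinearEquiv.ofSubsingleton Q PUnit.{u + 1})
    exact (S3527.result R Q P i hi).2

end Groth.Agent.H1CMReg
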